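import Cfsg.Agent.H526.LB.SoloTh
import Cfsg.Agent.H526.LB.SDef
import Cfsg.Agent.H116.HeckeU.CmpG
import Cfsg.Agent.H157.HK.G
import Cfsg.Agent.Blocks.Fong
import Cfsg.Agent.Blocks.Local

/-!
# The duals of the constituents of `1_B^G` (helper526, for S4879)

* `exists_sys'` : the complete system of the constituents;
* `exists_dual` : the involution `D` of the constituents induced by `θ`: `⟨D χ, 1_{P_J}⟩ = ∑_{K ⊆ J} (-1)^|K| ⟨χ, 1_{P_K}⟩`,
  and `SL χ ψ → SL (D χ) (D ψ)`;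
* `SL.trans`, `SL.symm`, `SL.sameBlock`.
-/

set_option autoImplicit false
set_option linter.unusedSectionVars false

namespace Cfsg.Agent.H526.LB

open CoxeterSystem Cfsg Cfsg.Agent.Tits.Exchange Module Cfsg.Agent.Tits.Core Matrix Cfsg.Agent.Characters.Core
open Cfsg.Agent.H116.HeckeU
open Cfsg.Agent.H157.HK (Wt L R LL RR Cas A Z e wd eJ pJ iJ eps rk smul_zero_m)
open Cfsg.Agent.H116.HeckeC (ad ad_apply ad_injective Pm Ph Ph_apply Pm_apply Ph_comm Tr Tr_apply Tr_classFun)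
open Cfsg.Agent.H116.HeckeD (Cl mem_Cl perm adL Pm_ad exists_ad)
open Cfsg.Agent.H439.CC (mu)
open scoped ComplexConjugate

universe u v w

section Alg

variable {I W : Type*} {M : CoxeterMatrix I} [Group W] {cs : CoxeterSystem M W} [Fintype W] [DecidableEq W]
  {t : Wt cs} {ι : Type*} {z : ι → W → ℂ}

/-- `θ` permutes the primitive central idempotents. -/
theorem th_perm [Finite ι] (hz : H157.HK.Sys cs t z) (i : ι) : ∃ j, th cs t (z i) = z j := by
  have hz1 : ∀ i v, v ∈ Z cs t → ∃ a : ℂ, Lm cs t (z i) v = a • z i := fun i v hv => hz.apply_mem hv i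
  have hid : ∀ i, Lm cs t (z i) (z i) = z i := hz.idem
  -- an idempotent scalar
  have hsc : ∀ (a : ℂ) (v : W → ℂ), v ≠ 0 → a • v ≠ 0 → Lm cs t v v = v → Lm cs t (a • v) (a • v) = a • v → a = 1 := by
    intro a v hv ha h1 h2
    have ha0 : a ≠ 0 := fun h => ha (by rw [h, zero_smul])
    rw [map_smul, map_smul, LinearMap.smul_apply, h1, smul_smul] at h2
    have h3 : (a * a - a) • v = 0 := by rw [sub_smul, h2, sub_self]
    have h4 := (smul_eq_zero.1 h3).resolve_right hv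
    have h5 : a * (a - 1) = 0 := by linear_combination h4
    exact sub_eq_zero.1 ((mul_eq_zero.1 h5).resolve_left ha0)
  have hidt : ∀ i, Lm cs t (th cs t (z i)) (th cs t (z i)) = th cs t (z i) := fun i => by
    rw [← th_Lm, hid]
  have hmt : ∀ i, th cs t (z i) ∈ Z cs t := fun i => th_mem_Z cs (hz.mem i)
  have hne : th cs t (z i) ≠ 0 := fun h => hz.ne i (by
    have h1 := congrArg (th cs t) h
    rwa [th_th, map_zero] at h1)
  -- some `z j` does not kill `θ z_i`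
  obtain ⟨j, hj⟩ : ∃ j, Lm cs t (z j) (th cs t (z i)) ≠ 0 := by
    by_contra hcon
    push Not at hcon
    let _ : Fintype ι := Fintype.ofFinite ι
    obtain ⟨a, ha⟩ := hz.exists_sum (hmt i)
    apply hne
    rw [ha]
    refine Finset.sum_eq_zero fun j _ => ?_
    have h1 : Lm cs t (z j) (∑ j, a j • z j) = a j • z j := hz.sum_apply a j
    rw [← h1, ← ha, hcon j]
  refine ⟨j, ?_⟩
  obtain ⟨a, ha⟩ := hz1 j _ (hmt i)
  obtain ⟨b, hb⟩ := hz1 i _ (hmt j)
  -- the two products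
  have h1 : Lm cs t (th cs t (z i)) (z j) = a • z j := by
    rw [(mem_Z_iff cs).1 (hz.mem j) (th cs t (z i)), ha]
  have h2 : th cs t (Lm cs t (z i) (th cs t (z j))) = a • z j := by
    rw [th_Lm, th_th, h1]
  rw [hb, map_smul] at h2
  -- `b θ z_i = a z_j`
  have ha0 : a • z j ≠ 0 := ha ▸ hj
  -- the product of commuting idempotents is idempotent
  have h3 : Lm cs t (a • z j) (a • z j) = a • z j := by
    have hcomm : ∀ v, Lm cs t v (z j) = Lm cs t (z j) v := (mem_Z_iff cs).1 (hz.mem j)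
    rw [← ha]
    rw [Lm_mul, Module.End.mul_apply, ← Module.End.mul_apply (Lm cs t (th cs t (z i))), ← Lm_mul, hcomm,
      Lm_mul, Module.End.mul_apply, hidt, ← Module.End.mul_apply, ← Lm_mul, hid]
  have ha1 : a = 1 := hsc a (z j) (hz.ne j) ha0 (hid j) h3
  have hb0 : b • th cs t (z i) ≠ 0 := h2 ▸ ha0
  have hb1 : b = 1 := hsc b (th cs t (z i)) hne hb0 (hidt i) (by rw [h2]; exact h3)
  rw [ha1, hb1, one_smul, one_smul] at h2
  exact h2

end Alg

section Types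

variable {I : Type*} {W : Type*} {M : CoxeterMatrix I} [Group W] {cs : CoxeterSystem M W} {C : Type*} (Δ : Bldg cs C)
  [Fintype C] [DecidableEq C] {G : Type u} [Group G] [Fintype G] [MulAction G C]
  (hiso : ∀ (g : G) (x y : C), Δ.δ (g • x) (g • y) = Δ.δ x y)
  (htr : ∀ x y x' y' : C, Δ.δ x y = Δ.δ x' y' → ∃ g : G, g • x = x' ∧ g • y = y')
  [DecidableEq W] [Fintype W] {t : Wt cs} (ht : IsWt Δ t) (x₀ : C) (P : Set I → Subgroup G)
  (hP : ∀ (J : Set I) (g : G), g ∈ P J ↔ Δ.δ x₀ (g • x₀) ∈ WJ cs J)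

include hiso htr ht x₀ hP in
/-- **The complete system of the constituents, their types, and their matrices.** -/
theorem exists_sys' : ∃ z : {χ : IrrCharacter G // mu (P ∅) (χ : G → ℂ) ≠ 0} → W → ℂ, Sys cs t z ∧
    (∀ χ (J : Set I), LinearMap.trace ℂ (W → ℂ) (Lm cs t (Lm cs t (z χ) (eJ cs t J))) =
      mu (P ∅) (χ.1 : G → ℂ) * mu (P J) (χ.1 : G → ℂ)) ∧
    ∀ χ, ad Δ (z χ) = ((χ.1 : G → ℂ) 1 / Nat.card G) • Ph C (χ.1 : G → ℂ) := by
  have : Nonempty C := ⟨x₀⟩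
  have hpm : ∀ χ : IrrCharacter G, classInner (perm G C) (χ : G → ℂ) = mu (P ∅) (χ : G → ℂ) := fun χ =>
    perm_mu Δ hiso htr ht x₀ P hP χ.2
  choose z hz hz' using fun χ : IrrCharacter G => exists_zc Δ hiso htr ht (G := G) χ.2
  have hs : Sys cs t (fun χ : {χ : IrrCharacter G // classInner (perm G C) (χ : G → ℂ) ≠ 0} => z χ.1) :=
    sys_of_zc Δ hiso htr ht _ (fun χ => hz χ.1) (fun χ => hz' χ.1)
  refine ⟨fun χ => z χ.1, ?_, fun χ J => ?_, fun χ => hz' χ.1⟩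
  · refine ⟨fun χ => hz χ.1, fun χ => ?_, fun χ χ' hne => ?_, fun χ => ?_, fun χ => ?_, ?_⟩
    · exact hs.idem ⟨χ.1, by rw [hpm]; exact χ.2⟩
    · exact hs.orth ⟨χ.1, by rw [hpm]; exact χ.2⟩ ⟨χ'.1, by rw [hpm]; exact χ'.2⟩ fun h =>
        hne (Subtype.ext (congrArg (fun y => y.1) h))
    · exact hs.ne ⟨χ.1, by rw [hpm]; exact χ.2⟩
    · exact hs.star ⟨χ.1, by rw [hpm]; exact χ.2⟩
    · rw [← hs.card]
      refine Nat.card_congr (Equiv.subtypeEquivRight fun χ => ?_)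
      rw [hpm]
  · rw [trace_zc Δ hiso htr ht χ.1.2 (hz χ.1) (hz' χ.1) (eJ cs t J) (eJ_star cs t J), hpm,
      classInner_mu Δ hiso htr ht x₀ P hP J χ.1.2]
    obtain ⟨n, hn⟩ := mu_nat (P J) (isIrr_isCharacter χ.1.2)
    rw [hn, Complex.conj_natCast]

include ht in
/-- the eigenvalues in terms of the idempotents -/
theorem eig_iff [Nonempty C] {χ : G → ℂ} {y : W → ℂ} {c : ℂ} (hc : c ≠ 0) (hy : ad Δ y = c • Ph C χ) (z : W → ℂ)
    (ω : ℂ) : ad Δ z * Ph C χ = ω • Ph C χ ↔ Lm cs t z y = ω • y := by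
  have h1 : Ph C χ = c⁻¹ • ad Δ y := by rw [hy, smul_smul, inv_mul_cancel₀ hc, one_smul]
  rw [h1, mul_smul_comm, ← ad_Lm Δ ht, smul_comm ω]
  constructor
  · intro h
    apply ad_injective Δ
    have h2 : c⁻¹ • ad Δ (Lm cs t z y) = c⁻¹ • ad Δ (ω • y) := h
    exact smul_right_injective _ (inv_ne_zero hc) h2
  · intro h
    rw [h]
    rfl

variable {Δ}

theorem SL.symm {M' : Ideal AlgInt} {χ ψ : G → ℂ} (h : SL Δ t M' χ ψ) : SL Δ t M' ψ χ := by
  intro z hz ω ω' h1 h2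
  obtain ⟨a, b, ha, hb, e⟩ := h z hz ω' ω h2 h1
  refine ⟨-a, b, neg_mem ha, hb, ?_⟩
  rw [← neg_sub, ← e]
  push_cast
  ring

include ht in
theorem param_int [Nonempty C] (i : I) : ∃ n : ℤ, (t.p i : ℂ) = n := by
  obtain ⟨x⟩ := ‹Nonempty C›
  exact ⟨(Nat.card {y // Δ.δ x y = cs.simple i} : ℕ), by rw [← ht x i]; push_cast; rfl⟩

include hiso htr ht x₀ hP in
/-- **The duals.** -/
theorem exists_dual [DecidableEq I] : ∃ D : {χ : IrrCharacter G // mu (P ∅) (χ : G → ℂ) ≠ 0} →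
      {χ : IrrCharacter G // mu (P ∅) (χ : G → ℂ) ≠ 0},
    (∀ χ, D (D χ) = χ) ∧
    (∀ χ (J : Finset I), mu (P (J : Set I)) ((D χ).1 : G → ℂ) =
      ∑ K ∈ J.powerset, (-1 : ℂ) ^ K.card * mu (P (K : Set I)) (χ.1 : G → ℂ)) ∧
    ∀ (M' : Ideal AlgInt) χ ψ, SL Δ t M' (χ.1 : G → ℂ) (ψ.1 : G → ℂ) →
      SL Δ t M' ((D χ).1 : G → ℂ) ((D ψ).1 : G → ℂ) := by
  classical
  have hne : Nonempty C := ⟨x₀⟩
  obtain ⟨z, hz, htr', had⟩ := exists_sys' Δ hiso htr ht x₀ P hP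
  have hfin0 : Finite (IrrCharacter G) := finite_irr
  have hfin : Finite {χ : IrrCharacter G // mu (P ∅) (χ : G → ℂ) ≠ 0} := inferInstance
  have hs : H157.HK.Sys cs t z := ⟨hz.mem, hz.idem, hz.orth, hz.ne, hz.card⟩
  choose D hD using fun χ => th_perm hs χ
  have hinj : ∀ χ ψ, z χ = z ψ → χ = ψ := by
    intro χ ψ h
    by_contra hne'
    have h1 := hz.orth χ ψ hne'
    rw [h, hz.idem] at h1
    exact hz.ne ψ h1
  have hDD : ∀ χ, D (D χ) = χ := fun χ => hinj _ _ (by rw [← hD, ← hD, th_th])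
  have hG0 : (Nat.card G : ℂ) ≠ 0 := by exact_mod_cast Nat.card_pos.ne'
  have hc : ∀ χ : {χ : IrrCharacter G // mu (P ∅) (χ : G → ℂ) ≠ 0}, (χ.1 : G → ℂ) 1 / Nat.card G ≠ 0 := fun χ =>
    div_ne_zero (isIrr_apply_one_ne_zero χ.1.2) hG0
  have htrD : ∀ χ (J : Finset I), mu (P ∅) ((D χ).1 : G → ℂ) * mu (P (J : Set I)) ((D χ).1 : G → ℂ) =
      mu (P ∅) (χ.1 : G → ℂ) * ∑ K ∈ J.powerset, (-1 : ℂ) ^ K.card * mu (P (K : Set I)) (χ.1 : G → ℂ) := by
    intro χ J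
    rw [← htr', ← hD, trace_th_eJ cs t (hz.mem χ), Finset.mul_sum]
    refine Finset.sum_congr rfl fun K _ => ?_
    rw [htr']
    ring
  have h0 : ∀ χ, mu (P ∅) ((D χ).1 : G → ℂ) = mu (P ∅) (χ.1 : G → ℂ) := by
    intro χ
    obtain ⟨m, hm⟩ := mu_nat (P ∅) (isIrr_isCharacter χ.1.2)
    obtain ⟨n, hn⟩ := mu_nat (P ∅) (isIrr_isCharacter (D χ).1.2)
    have h3 := htrD χ ∅
    rw [Finset.powerset_empty, Finset.sum_singleton, Finset.card_empty, pow_zero, one_mul, Finset.coe_empty, hm,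
      hn] at h3
    rw [hm, hn]
    have h4 : n * n = m * m := by exact_mod_cast h3
    rw [Nat.mul_self_inj.1 h4]
  refine ⟨D, hDD, fun χ J => ?_, fun M' χ ψ hSL y hy ω ω' h1 h2 => ?_⟩
  · have h1 := htrD χ J
    rw [h0] at h1
    exact mul_left_cancel₀ χ.2 h1
  · -- the dual element
    have hint := th_int cs (t := t) (param_int ht) (v := fun w => (y w : ℂ)) fun w => ⟨y w, rfl⟩
    choose y' hy' using hint
    have hye : (fun w => (y' w : ℂ)) = th cs t (fun w => (y w : ℂ)) := funext fun w => (hy' w).symm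
    have hyZ : (fun w => (y' w : ℂ)) ∈ Z cs t := by rw [hye]; exact th_mem_Z cs hy
    have key : ∀ (χ : {χ : IrrCharacter G // mu (P ∅) (χ : G → ℂ) ≠ 0}) (ω : ℂ),
        ad Δ (fun w => (y w : ℂ)) * Ph C ((D χ).1 : G → ℂ) = ω • Ph C ((D χ).1 : G → ℂ) →
        ad Δ (fun w => (y' w : ℂ)) * Ph C (χ.1 : G → ℂ) = ω • Ph C (χ.1 : G → ℂ) := by
      intro χ ω h
      rw [eig_iff Δ ht (hc (D χ)) (had (D χ)), ← hD] at h
      rw [eig_iff Δ ht (hc χ) (had χ), hye]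
      have h5 := congrArg (th cs t) h
      rwa [th_Lm, map_smul, th_th] at h5
    exact hSL y' hyZ ω ω' (key χ ω h1) (key ψ ω' h2)

include hiso htr ht x₀ hP in
/-- the eigenvalues exist -/
theorem exists_eig (χ : {χ : IrrCharacter G // mu (P ∅) (χ : G → ℂ) ≠ 0}) {y : W → ℂ} (hy : y ∈ Z cs t) :
    ∃ ω : ℂ, ad Δ y * Ph C (χ.1 : G → ℂ) = ω • Ph C (χ.1 : G → ℂ) := by
  classical
  have hne : Nonempty C := ⟨x₀⟩
  obtain ⟨z, hz, -, had⟩ := exists_sys' Δ hiso htr ht x₀ P hP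
  have hfin0 : Finite (IrrCharacter G) := finite_irr
  have hfin : Finite {χ : IrrCharacter G // mu (P ∅) (χ : G → ℂ) ≠ 0} := inferInstance
  have hs : H157.HK.Sys cs t z := ⟨hz.mem, hz.idem, hz.orth, hz.ne, hz.card⟩
  have hG0 : (Nat.card G : ℂ) ≠ 0 := by exact_mod_cast Nat.card_pos.ne'
  have hc : (χ.1 : G → ℂ) 1 / Nat.card G ≠ 0 := div_ne_zero (isIrr_apply_one_ne_zero χ.1.2) hG0
  obtain ⟨a, ha⟩ := hs.apply_mem hy χ
  refine ⟨a, ?_⟩
  rw [eig_iff Δ ht hc (had χ)]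
  have h1 : Lm cs t (z χ) y = a • z χ := ha
  rw [← h1, ← (mem_Z_iff cs).1 hy]

include hiso htr ht x₀ hP in
/-- **Transitivity.** -/
theorem SL.trans {M' : Ideal AlgInt} [M'.IsPrime] {χ φ : G → ℂ} {ψ : {χ : IrrCharacter G // mu (P ∅) (χ : G → ℂ) ≠ 0}}
    (h : SL Δ t M' χ (ψ.1 : G → ℂ)) (h' : SL Δ t M' (ψ.1 : G → ℂ) φ) : SL Δ t M' χ φ := by
  intro y hy ω ω' h1 h2
  obtain ⟨μ, hμ⟩ := exists_eig hiso htr ht x₀ P hP ψ hy
  have h3 := Blocks.Local.memLocalIdeal_add (h y hy ω μ h1 hμ) (h' y hy μ ω' hμ h2)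
  rwa [sub_add_sub_cancel] at h3

include hiso htr ht in
/-- **Strong links are in one block.** -/
theorem SL.sameBlock [Nonempty C] {M' : Ideal AlgInt} {χ ψ : G → ℂ} (hχ : IsIrrCharacter G χ) (hψ : IsIrrCharacter G ψ)
    (h : SL Δ t M' χ ψ) : SameBlock M' χ ψ := by
  classical
  intro g
  set f : G → ℂ := fun x => if IsConj g⁻¹ x then 1 else 0 with hf
  have hcf : IsClassFunction G f := by
    intro x y
    rw [hf]
    have h1 : IsConj g⁻¹ (y * x * y⁻¹) ↔ IsConj g⁻¹ x :=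
      ⟨fun h => h.trans (isConj_iff.2 ⟨y⁻¹, by group⟩), fun h => h.trans (isConj_iff.2 ⟨y, rfl⟩)⟩
    simp only [h1]
  have hmem : Ph C f ∈ (Cl G).map (Ph C) := ⟨f, hcf, rfl⟩
  rw [map_eq Δ hiso htr ht] at hmem
  obtain ⟨y, hy, hy2⟩ := hmem
  have hy3 : ad Δ y = Ph C f := hy2
  have hint : ∀ w, ∃ n : ℤ, y w = n := by
    intro w
    obtain ⟨x⟩ := ‹Nonempty C›
    obtain ⟨x', hx'⟩ := Δ.exists_δ x w
    have h1 := congrFun (congrFun hy3 x) x'
    rw [ad_apply, hx', Ph_apply, Matrix.sum_apply] at h1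
    refine ⟨∑ g : G, (if IsConj g⁻¹ g then 1 else 0) * 0 + ∑ a : G, (if IsConj g⁻¹ a then 1 else 0) *
      (if x = a⁻¹ • x' then 1 else 0), ?_⟩
    rw [h1]
    push_cast
    simp only [mul_zero, Finset.sum_const_zero, zero_add]
    refine Finset.sum_congr rfl fun a _ => ?_
    rw [Matrix.smul_apply, Pm_apply, smul_eq_mul]
  choose y' hy' using hint
  have hye : (fun w => (y' w : ℂ)) = y := funext fun w => (hy' w).symm
  have key : ∀ χ : G → ℂ, IsIrrCharacter G χ →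
      ad Δ (fun w => (y' w : ℂ)) * Ph C χ = centralChar χ g • Ph C χ := by
    intro χ hχ
    rw [hye, hy3, Ph_mul hcf hχ]
    congr 1
    have hG0 : (Nat.card G : ℂ) ≠ 0 := by exact_mod_cast Nat.card_pos.ne'
    have h1 : ∑ x : G, f x * conj (χ x) = (Subgroup.centralizer ({g} : Set G)).index * χ g := by
      have h2 : ∀ x : G, f x * conj (χ x) = if IsConj g⁻¹ x then χ g else 0 := by
        intro x
        by_cases hx : IsConj g⁻¹ x
        · rw [if_pos hx]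
          have h3 : f x = 1 := if_pos hx
          obtain ⟨c, hc⟩ := isConj_iff.1 hx
          rw [h3, one_mul, ← isCharacter_apply_inv (isIrr_isCharacter hχ), ← hc]
          have h4 : (c * g⁻¹ * c⁻¹)⁻¹ = c * g * c⁻¹ := by group
          rw [h4]
          exact isIrr_isClassFunction hχ g c
        · rw [if_neg hx]
          have h3 : f x = 0 := if_neg hx
          rw [h3, zero_mul]
      rw [Finset.sum_congr rfl fun x _ => h2 x, ← Finset.sum_filter, Finset.sum_const, nsmul_eq_mul]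
      congr 1
      have h3 : Subgroup.centralizer ({g} : Set G) = Subgroup.centralizer ({g⁻¹} : Set G) := by
        ext x
        rw [Subgroup.mem_centralizer_singleton_iff, Subgroup.mem_centralizer_singleton_iff]
        constructor
        · intro h
          rw [eq_inv_mul_iff_mul_eq, ← mul_assoc, ← h, mul_inv_cancel_right]
        · intro h
          have h5 : x * g⁻¹ = g⁻¹ * x := h
          have h6 : g * (x * g⁻¹) * g = g * (g⁻¹ * x) * g := by rw [h5]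
          rw [mul_assoc, inv_mul_cancel_right, mul_inv_cancel_left] at h6
          exact h6.symm
      rw [h3, ← Blocks.Fong.card_isConj_eq_index, Nat.card_eq_fintype_card, Fintype.card_subtype]
    rw [classInner_def, h1]
    unfold centralChar
    field_simp
  exact h y' (by rw [hye]; exact hy) _ _ (key χ hχ) (key ψ hψ)

end Types

end Cfsg.Agent.H526.LB
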