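import Cfsg.Agent.H526.LB.Theta
import Cfsg.Agent.H115.Bru

/-!
# Solomon's alternating sum for traces (helper526)

`VK K` : the functions on `W` invariant under the left multiplications by `s ∈ K` (`= e_K H` for all parameters).

* `alt_trace` : `∑_{K ⊆ J} (-1)^|K| tr (z P_K) = tr z - tr (z Q)` if `z` preserves the `VK {s}`, `P_K` is a projection
  onto `VK K` and `Q` a projection onto `∑_{s ∈ J} VK {s}`;
* `trace_eJ_th` : `tr (z θ(e_J)) = ∑_{K ⊆ J} (-1)^|K| tr (z e_K)` for central `z`.
-/

set_option autoImplicit false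
set_option linter.unusedSectionVars false

namespace Cfsg.Agent.H526.LB

open CoxeterSystem Module Cfsg.Agent.Tits.Exchange Cfsg.Agent.Tits.Core
open Cfsg.Agent.H157.HK (Wt L R LL RR Cas A Z e wd eJ pJ iJ wd_reduced wd_prod LL_nil LL_cons LL_e_one L_sq L_e commLR
  LL_append Wt.f_mul reduced_tail)
open Cfsg.Agent.H116.HeckeU

section Lin

variable {V : Type*} [AddCommGroup V] [Module ℂ V] [FiniteDimensional ℂ V]

/-- the trace on a stable subspace does not depend on the projection -/
theorem trace_proj {m : Submodule ℂ V} {z P Q : Module.End ℂ V} (hP : LinearMap.IsProj m P) (hQ : LinearMap.IsProj m Q)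
    (hz : ∀ v ∈ m, z v ∈ m) : LinearMap.trace ℂ V (z * P) = LinearMap.trace ℂ V (z * Q) := by
  have h1 : Q * P = P := LinearMap.ext fun v => by
    rw [Module.End.mul_apply, hQ.map_id _ (hP.map_mem v)]
  have h2 : P * (z * Q) = z * Q := LinearMap.ext fun v => by
    rw [Module.End.mul_apply, Module.End.mul_apply, hP.map_id _ (hz _ (hQ.map_mem v))]
  conv_lhs => rw [← h1, ← mul_assoc, LinearMap.trace_mul_comm, h2]

end Lin

variable {I W : Type*} {M : CoxeterMatrix I} [Group W] (cs : CoxeterSystem M W) [Fintype W]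

/-- The functions invariant under the reflections of `K`. -/
def VK (K : Set I) : Submodule ℂ (W → ℂ) where
  carrier := {v | ∀ s ∈ K, ∀ x, v (cs.simple s * x) = v x}
  add_mem' {u v} hu hv s hs x := by rw [Pi.add_apply, Pi.add_apply, hu s hs, hv s hs]
  zero_mem' s _ x := rfl
  smul_mem' c v hv s hs x := by rw [Pi.smul_apply, Pi.smul_apply, hv s hs]

theorem mem_VK {K : Set I} {v : W → ℂ} : v ∈ VK cs K ↔ ∀ s ∈ K, ∀ x, v (cs.simple s * x) = v x := Iff.rfl

theorem VK_mono {K K' : Set I} (h : K ⊆ K') : VK cs K' ≤ VK cs K := fun _ hv s hs => hv s (h hs)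

/-- Left descents. -/
def Ds (w : W) : Set I := {s | cs.length (cs.simple s * w) < cs.length w}

open Classical in
/-- The indicator function of the coset of the parabolic subgroup of the left descents. -/
noncomputable def bw (w : W) : W → ℂ := fun x => if x * w⁻¹ ∈ WJ cs (Ds cs w) then 1 else 0

theorem bw_self (w : W) : bw cs w w = 1 := by
  unfold bw
  rw [mul_inv_cancel, if_pos (one_mem _)]

theorem bw_mem (w : W) : bw cs w ∈ VK cs (Ds cs w) := by
  intro s hs x
  unfold bw
  congr 1
  rw [mul_assoc]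
  exact propext (Subgroup.mul_mem_cancel_left _ (simple_mem_WJ cs hs))

/-- `w` is the longest element of its coset. -/
theorem bw_ne {w x : W} (h : bw cs w x ≠ 0) : x = w ∨ cs.length x < cs.length w := by
  have h1 : x * w⁻¹ ∈ WJ cs (Ds cs w) := by
    by_contra h2
    exact h (if_neg h2)
  obtain ⟨u, hu, v, hw, hv⟩ := exists_isMinL cs (Ds cs w) w
  have hlen : cs.length w = cs.length u + cs.length v := by rw [hw]; exact hv u hu
  -- `u` is the longest element
  have hu' : u = wJ cs (Ds cs w) := by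
    have hl := isLongest_wJ cs (Ds cs w)
    have h3 : u⁻¹ = wJ cs (Ds cs w) := by
      rw [H115.Bru.eq_longest_iff (cs := cs) hl (inv_mem hu)]
      intro i hi h4
      have h5 : cs.length (cs.simple i * w) < cs.length w := hi
      have h6 : cs.length (cs.simple i * w) = cs.length (cs.simple i * u) + cs.length v := by
        conv_lhs => rw [hw, ← mul_assoc]
        exact hv _ (mul_mem (simple_mem_WJ cs hi) hu)
      have h7 : cs.length (u⁻¹ * cs.simple i) = cs.length (cs.simple i * u) := by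
        rw [← cs.length_inv (cs.simple i * u), mul_inv_rev, cs.inv_simple]
      rw [h7, cs.length_inv] at h4
      omega
    rw [← inv_inv u, h3, hl.inv_eq]
  have hl := isLongest_wJ cs (Ds cs w)
  rw [← hu'] at hl
  have h3 : x = x * w⁻¹ * u * v := by
    conv_rhs => rw [mul_assoc, ← hw]
    rw [inv_mul_cancel_right]
  have h4 : cs.length x = cs.length (x * w⁻¹ * u) + cs.length v := by
    conv_lhs => rw [h3]
    exact hv _ (mul_mem h1 hu)
  have h5 := (hl.2 _ h1).2
  by_cases h6 : cs.length (x * w⁻¹) = 0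
  · left
    rw [cs.length_eq_zero_iff, mul_inv_eq_one] at h6
    exact h6
  · right
    omega

/-- The operator of the basis `bw`. -/
noncomputable def Bm : (W → ℂ) →ₗ[ℂ] (W → ℂ) where
  toFun a := ∑ w, a w • bw cs w
  map_add' u v := by
    rw [← Finset.sum_add_distrib]
    exact Finset.sum_congr rfl fun w _ => by rw [Pi.add_apply, add_smul]
  map_smul' c v := by
    rw [RingHom.id_apply, Finset.smul_sum]
    exact Finset.sum_congr rfl fun w _ => by rw [Pi.smul_apply, smul_eq_mul, mul_smul]

theorem Bm_apply (a : W → ℂ) : Bm cs a = ∑ w, a w • bw cs w := rfl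

theorem Bm_top {a : W → ℂ} {n : ℕ} (h : ∀ w, a w ≠ 0 → cs.length w ≤ n) {x : W} (hx : n ≤ cs.length x) :
    Bm cs a x = a x := by
  rw [Bm_apply, Finset.sum_apply, Finset.sum_eq_single x]
  · rw [Pi.smul_apply, bw_self, smul_eq_mul, mul_one]
  · intro w _ hw
    rw [Pi.smul_apply, smul_eq_mul]
    by_cases h1 : a w = 0
    · rw [h1, zero_mul]
    · by_cases h2 : bw cs w x = 0
      · rw [h2, mul_zero]
      · exfalso
        have h3 := h w h1
        rcases bw_ne cs h2 with h4 | h4
        · exact hw h4.symm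
        · omega
  · intro h'
    exact absurd (Finset.mem_univ _) h'

theorem exists_max {a : W → ℂ} (ha : a ≠ 0) : ∃ w, a w ≠ 0 ∧ ∀ w', a w' ≠ 0 → cs.length w' ≤ cs.length w := by
  classical
  obtain ⟨w₀, hw₀⟩ : ∃ w, a w ≠ 0 := by
    by_contra h
    push Not at h
    exact ha (funext h)
  obtain ⟨w, hw, hmax⟩ := Finset.exists_max_image (Finset.univ.filter fun w => a w ≠ 0) (fun w => cs.length w)
    ⟨w₀, Finset.mem_filter.2 ⟨Finset.mem_univ _, hw₀⟩⟩
  exact ⟨w, (Finset.mem_filter.1 hw).2, fun w' hw' => hmax w' (Finset.mem_filter.2 ⟨Finset.mem_univ _, hw'⟩)⟩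

theorem Bm_injective : Function.Injective (Bm cs) := by
  rw [← LinearMap.ker_eq_bot, LinearMap.ker_eq_bot']
  intro a ha
  by_contra h
  obtain ⟨w, hw, hmax⟩ := exists_max cs h
  have h1 := Bm_top cs hmax le_rfl
  rw [ha] at h1
  exact hw h1.symm

theorem supp_of_mem {K : Set I} : ∀ (n : ℕ) (a : W → ℂ), Nat.card {w // a w ≠ 0} = n → Bm cs a ∈ VK cs K →
    ∀ w, a w ≠ 0 → K ⊆ Ds cs w := by
  classical
  intro n
  induction n with
  | zero =>
    intro a hn _ w hw
    have : Nonempty {w // a w ≠ 0} := ⟨⟨w, hw⟩⟩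
    have h1 : 0 < Nat.card {w // a w ≠ 0} := Nat.card_pos
    omega
  | succ n ih =>
    intro a hn hB w hw
    have ha : a ≠ 0 := fun h => hw (by rw [h]; rfl)
    obtain ⟨w₀, hw₀, hmax⟩ := exists_max cs ha
    have h1 : K ⊆ Ds cs w₀ := by
      intro s hs
      by_contra h2
      have h3 : cs.length w₀ < cs.length (cs.simple s * w₀) := by
        have h4 : ¬ cs.length (cs.simple s * w₀) < cs.length w₀ := h2
        rcases cs.length_simple_mul w₀ s with h5 | h5 <;> omega
      have h4 := Bm_top cs hmax h3.le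
      rw [hB s hs, Bm_top cs hmax le_rfl] at h4
      have h5 : a (cs.simple s * w₀) ≠ 0 := h4 ▸ hw₀
      have h6 := hmax _ h5
      omega
    by_cases hww : w = w₀
    · rw [hww]; exact h1
    · have h2 : ∀ x, (a - Pi.single w₀ (a w₀) : W → ℂ) x = if x = w₀ then 0 else a x := by
        intro x
        rw [Pi.sub_apply]
        by_cases hx : x = w₀
        · rw [if_pos hx, hx, Pi.single_eq_same, sub_self]
        · rw [if_neg hx, Pi.single_eq_of_ne hx, sub_zero]
      refine ih (a - Pi.single w₀ (a w₀)) ?_ ?_ w ?_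
      · have h3 : Nat.card {w // a w ≠ 0} = Nat.card {w // (a - Pi.single w₀ (a w₀) : W → ℂ) w ≠ 0} + 1 := by
          rw [Nat.card_eq_fintype_card, Nat.card_eq_fintype_card, Fintype.card_subtype, Fintype.card_subtype]
          have h4 : (Finset.univ.filter fun w => a w ≠ 0) =
              insert w₀ (Finset.univ.filter fun w => (a - Pi.single w₀ (a w₀) : W → ℂ) w ≠ 0) := by
            ext x
            rw [Finset.mem_insert, Finset.mem_filter, Finset.mem_filter, h2]
            by_cases hx : x = w₀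
            · simp [hx, hw₀]
            · simp [hx]
          rw [h4, Finset.card_insert_of_notMem]
          rw [Finset.mem_filter, h2]
          simp
        omega
      · have h3 : Bm cs (Pi.single w₀ (a w₀)) = a w₀ • bw cs w₀ := by
          rw [Bm_apply, Finset.sum_eq_single w₀]
          · rw [Pi.single_eq_same]
          · intro x _ hx
            rw [Pi.single_eq_of_ne hx, zero_smul]
          · intro h
            exact absurd (Finset.mem_univ _) h
        rw [map_sub, h3]
        exact sub_mem hB (Submodule.smul_mem _ _ (VK_mono cs h1 (bw_mem cs w₀)))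
      · rw [h2, if_neg hww]; exact hw

/-- The basis as an equivalence. -/
noncomputable def Be : (W → ℂ) ≃ₗ[ℂ] (W → ℂ) := LinearEquiv.ofInjectiveEndo (Bm cs) (Bm_injective cs)

theorem Be_apply (a : W → ℂ) : Be cs a = Bm cs a := rfl

open Classical in
/-- The diagonal projection. -/
noncomputable def Dg (S : Set W) : Module.End ℂ (W → ℂ) where
  toFun a w := if w ∈ S then a w else 0
  map_add' u v := by
    funext w
    rw [Pi.add_apply, Pi.add_apply]
    split_ifs <;> simp
  map_smul' c v := by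
    funext w
    rw [RingHom.id_apply, Pi.smul_apply, Pi.smul_apply]
    split_ifs <;> simp

theorem Dg_apply (S : Set W) (a : W → ℂ) (w : W) [Decidable (w ∈ S)] : Dg S a w = if w ∈ S then a w else 0 := by
  unfold Dg
  simp only [LinearMap.coe_mk, AddHom.coe_mk]
  split_ifs <;> rfl

/-- The coordinate projection. -/
noncomputable def Pc (S : Set W) : Module.End ℂ (W → ℂ) :=
  (Be cs : (W → ℂ) →ₗ[ℂ] (W → ℂ)) ∘ₗ Dg S ∘ₗ ((Be cs).symm : (W → ℂ) →ₗ[ℂ] (W → ℂ))

theorem Pc_apply (S : Set W) (v : W → ℂ) : Pc cs S v = Bm cs (Dg S ((Be cs).symm v)) := rfl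

theorem Pc_of_supp {S : Set W} {v : W → ℂ} (h : ∀ w, (Be cs).symm v w ≠ 0 → w ∈ S) : Pc cs S v = v := by
  classical
  have h1 : Dg S ((Be cs).symm v) = (Be cs).symm v := by
    funext w
    rw [Dg_apply]
    by_cases hw : w ∈ S
    · rw [if_pos hw]
    · rw [if_neg hw]
      by_contra h2
      exact hw (h w (Ne.symm h2))
  rw [Pc_apply, h1, ← Be_apply, LinearEquiv.apply_symm_apply]

theorem symm_supp {K : Set I} {v : W → ℂ} (hv : v ∈ VK cs K) (w : W) (hw : (Be cs).symm v w ≠ 0) : K ⊆ Ds cs w := by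
  refine supp_of_mem cs _ ((Be cs).symm v) rfl ?_ w hw
  rw [← Be_apply, LinearEquiv.apply_symm_apply]
  exact hv

theorem isProj_K (K : Set I) : LinearMap.IsProj (VK cs K) (Pc cs {w | K ⊆ Ds cs w}) := by
  classical
  constructor
  · intro v
    rw [Pc_apply, Bm_apply]
    refine Submodule.sum_mem _ fun w _ => ?_
    rw [Dg_apply]
    by_cases hw : w ∈ {w | K ⊆ Ds cs w}
    · rw [if_pos hw]
      exact Submodule.smul_mem _ _ (VK_mono cs hw (bw_mem cs w))
    · rw [if_neg hw, zero_smul]
      exact Submodule.zero_mem _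
  · intro v hv
    exact Pc_of_supp cs fun w hw => symm_supp cs hv w hw

/-- The sum of the `VK {s}`. -/
def UJ (J : Set I) : Submodule ℂ (W → ℂ) := ⨆ s ∈ J, VK cs {s}

theorem le_UJ {J : Set I} {s : I} (hs : s ∈ J) : VK cs {s} ≤ UJ cs J := le_iSup₂_of_le s hs le_rfl

theorem UJ_induction {J : Set I} {p : (W → ℂ) → Prop} (h0 : p 0) (hadd : ∀ u v, p u → p v → p (u + v))
    (h : ∀ s ∈ J, ∀ v ∈ VK cs {s}, p v) {v : W → ℂ} (hv : v ∈ UJ cs J) : p v := by
  unfold UJ at hv
  induction hv using Submodule.iSup_induction' with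
  | mem i x hx =>
    induction hx using Submodule.iSup_induction' with
    | mem hi x hx => exact h i hi x hx
    | zero => exact h0
    | add x y _ _ hx hy => exact hadd x y hx hy
  | zero => exact h0
  | add x y _ _ hx hy => exact hadd x y hx hy

theorem isProj_U (J : Set I) : LinearMap.IsProj (UJ cs J) (Pc cs {w | ∃ s ∈ J, s ∈ Ds cs w}) := by
  classical
  constructor
  · intro v
    rw [Pc_apply, Bm_apply]
    refine Submodule.sum_mem _ fun w _ => ?_
    rw [Dg_apply]
    by_cases hw : w ∈ {w | ∃ s ∈ J, s ∈ Ds cs w}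
    · rw [if_pos hw]
      obtain ⟨s, hs, hs'⟩ := hw
      exact Submodule.smul_mem _ _ (le_UJ cs hs (VK_mono cs (Set.singleton_subset_iff.2 hs') (bw_mem cs w)))
    · rw [if_neg hw, zero_smul]
      exact Submodule.zero_mem _
  · intro v hv
    refine UJ_induction cs (p := fun v => Pc cs {w | ∃ s ∈ J, s ∈ Ds cs w} v = v) ?_ ?_ ?_ hv
    · exact map_zero _
    · intro u v hu hv
      rw [map_add, hu, hv]
    · intro s hs v hv
      exact Pc_of_supp cs fun w hw => ⟨s, hs, symm_supp cs hv w hw rfl⟩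

/-- **Solomon's alternating sum for traces.** -/
theorem alt_trace [DecidableEq I] (J : Finset I) {z : Module.End ℂ (W → ℂ)}
    (hz : ∀ K : Set I, ∀ v ∈ VK cs K, z v ∈ VK cs K)
    {P : Finset I → Module.End ℂ (W → ℂ)} (hP : ∀ K : Finset I, LinearMap.IsProj (VK cs (K : Set I)) (P K))
    {Q : Module.End ℂ (W → ℂ)} (hQ : LinearMap.IsProj (UJ cs (J : Set I)) Q) :
    ∑ K ∈ J.powerset, (-1 : ℂ) ^ K.card * LinearMap.trace ℂ (W → ℂ) (z * P K) =
      LinearMap.trace ℂ (W → ℂ) z - LinearMap.trace ℂ (W → ℂ) (z * Q) := by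
  classical
  have h1 : ∀ K : Finset I, LinearMap.trace ℂ (W → ℂ) (z * P K) =
      LinearMap.trace ℂ (W → ℂ) (z * Pc cs {w | (K : Set I) ⊆ Ds cs w}) := fun K =>
    trace_proj (hP K) (isProj_K cs _) (hz _)
  have h2 : LinearMap.trace ℂ (W → ℂ) (z * Q) =
      LinearMap.trace ℂ (W → ℂ) (z * Pc cs {w | ∃ s ∈ (J : Set I), s ∈ Ds cs w}) := by
    refine trace_proj hQ (isProj_U cs _) fun v hv => ?_
    refine UJ_induction cs (p := fun v => z v ∈ UJ cs (J : Set I)) ?_ ?_ ?_ hv
    · rw [map_zero]; exact Submodule.zero_mem _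
    · intro u v hu hv
      rw [map_add]
      exact Submodule.add_mem _ hu hv
    · intro s hs v hv
      exact le_UJ cs hs (hz _ v hv)
  have h3 : (∑ K ∈ J.powerset, (-1 : ℂ) ^ K.card • Pc cs {w | (K : Set I) ⊆ Ds cs w}) =
      1 - Pc cs {w | ∃ s ∈ (J : Set I), s ∈ Ds cs w} := by
    apply LinearMap.ext
    intro v
    obtain ⟨a, rfl⟩ := (Be cs).surjective v
    rw [LinearMap.sum_apply, LinearMap.sub_apply, Module.End.one_apply]
    have h30 : ∀ K ∈ J.powerset, ((-1 : ℂ) ^ K.card • Pc cs {w | (K : Set I) ⊆ Ds cs w}) (Be cs a) =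
        Bm cs ((-1 : ℂ) ^ K.card • Dg {w | (K : Set I) ⊆ Ds cs w} a) := fun K _ => by
      rw [LinearMap.smul_apply, Pc_apply, LinearEquiv.symm_apply_apply, map_smul]
    rw [Finset.sum_congr rfl h30, ← map_sum, Pc_apply, LinearEquiv.symm_apply_apply, Be_apply, ← map_sub]
    congr 1
    funext w
    rw [Finset.sum_apply, Pi.sub_apply, Dg_apply]
    have h4 : ∀ K ∈ J.powerset, ((-1 : ℂ) ^ K.card • Dg {w | (K : Set I) ⊆ Ds cs w} a) w =
        if (K : Set I) ⊆ Ds cs w then (-1 : ℂ) ^ K.card * a w else 0 := by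
      intro K _
      rw [Pi.smul_apply, Dg_apply, smul_eq_mul, mul_ite, mul_zero]
      rfl
    rw [Finset.sum_congr rfl h4, ← Finset.sum_filter, ← Finset.sum_mul]
    have h5 : J.powerset.filter (fun K : Finset I => (K : Set I) ⊆ Ds cs w) =
        (J.filter fun s => s ∈ Ds cs w).powerset := by
      ext K
      rw [Finset.mem_filter, Finset.mem_powerset, Finset.mem_powerset]
      constructor
      · rintro ⟨h6, h7⟩ s hs
        exact Finset.mem_filter.2 ⟨h6 hs, h7 hs⟩
      · intro h6
        exact ⟨fun s hs => (Finset.mem_filter.1 (h6 hs)).1, fun s hs => (Finset.mem_filter.1 (h6 hs)).2⟩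
    have h6 : (∑ K ∈ (J.filter fun s => s ∈ Ds cs w).powerset, (-1 : ℂ) ^ K.card) =
        if (J.filter fun s => s ∈ Ds cs w) = ∅ then 1 else 0 := by
      have h7 := Finset.sum_powerset_neg_one_pow_card (x := J.filter fun s => s ∈ Ds cs w)
      have h8 := congrArg (Int.cast : ℤ → ℂ) h7
      push_cast at h8
      exact h8
    rw [h5, h6]
    by_cases h7 : (J.filter fun s => s ∈ Ds cs w) = ∅
    · rw [if_pos h7, if_neg, one_mul, sub_zero]
      rintro ⟨s, hs, hs'⟩
      have h8 : s ∈ (J.filter fun s => s ∈ Ds cs w) := Finset.mem_filter.2 ⟨hs, hs'⟩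
      rw [h7] at h8
      exact absurd h8 (Finset.notMem_empty _)
    · rw [if_neg h7, if_pos, zero_mul, sub_self]
      obtain ⟨s, hs⟩ := Finset.nonempty_iff_ne_empty.2 h7
      exact ⟨s, (Finset.mem_filter.1 hs).1, (Finset.mem_filter.1 hs).2⟩
  rw [h2, Finset.sum_congr rfl fun K _ => by rw [h1 K]]
  have h4 := congrArg (fun a => LinearMap.trace ℂ (W → ℂ) (z * a)) h3
  simp only [Finset.mul_sum, mul_smul_comm, map_sum, map_smul, smul_eq_mul, mul_sub, mul_one, map_sub] at h4
  exact h4

/-! ### The idempotents -/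

theorem mem_VK_iff_L (t : Wt cs) {K : Set I} {v : W → ℂ} : v ∈ VK cs K ↔ ∀ s ∈ K, L cs t s v = (t.p s : ℂ) • v := by
  constructor
  · intro h s hs
    funext x
    rw [H157.HK.L_apply, Pi.smul_apply, smul_eq_mul, h s hs]
    split_ifs
    · ring
    · rfl
  · intro h s hs x
    have h1 := congrFun (h s hs) x
    have hp : (t.p s : ℂ) ≠ 0 := by exact_mod_cast (t.p_pos s).ne'
    rw [H157.HK.L_apply, Pi.smul_apply, smul_eq_mul] at h1
    split_ifs at h1
    · linear_combination h1
    · exact mul_left_cancel₀ hp h1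

variable [DecidableEq W]

theorem isProj_eJ (t : Wt cs) (K : Set I) : LinearMap.IsProj (VK cs K) (Lm cs t (eJ cs t K)) := by
  classical
  have hp : ((pJ cs t K : ℝ) : ℂ) ≠ 0 := H157.HK.pJ_ne cs t K
  constructor
  · intro v
    rw [mem_VK_iff_L cs t]
    intro s hs
    have h1 : L cs t s (eJ cs t K) = (t.p s : ℂ) • eJ cs t K := by
      rw [H157.HK.eJ_eq, map_smul, H157.HK.L_iJ cs t K hs, smul_comm]
    rw [L_eq, ← Module.End.mul_apply, ← Lm_mul, ← L_eq, h1, map_smul, LinearMap.smul_apply]
  · intro v hv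
    rw [mem_VK_iff_L cs t] at hv
    have h1 : ∀ ω : List I, (∀ i ∈ ω, i ∈ K) → LL cs t ω v = ((ω.map fun i => (t.p i : ℂ)).prod) • v := by
      intro ω hω
      induction ω with
      | nil => rw [LL_nil, List.map_nil, List.prod_nil, one_smul, Module.End.one_apply]
      | cons i ω ih =>
        rw [LL_cons, Module.End.mul_apply, ih (fun j hj => hω j (List.mem_cons_of_mem _ hj)), map_smul,
          hv i (hω i (List.mem_cons_self ..)), smul_smul, List.map_cons, List.prod_cons, mul_comm]
    have h2 : ∀ w ∈ WJ cs K, LL cs t (wd cs w) v = (t.f w : ℂ) • v := by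
      intro w hw
      obtain ⟨ω, hω, hred, hw'⟩ := exists_reduced_of_mem_WJ cs hw
      have h3 : LL cs t (wd cs w) = LL cs t ω := by
        rw [H116.HeckeU.LL_eq cs t (wd_reduced cs w), H116.HeckeU.LL_eq cs t hred, wd_prod, hw']
      rw [h3, h1 ω hω]
      congr 1
      rw [← hw']
      clear h3 hw' hw
      induction ω with
      | nil => rw [wordProd_nil, t.f_one]; simp
      | cons i ω ih =>
        have hr := reduced_tail cs hred
        rw [List.map_cons, List.prod_cons, ih (fun j hj => hω j (List.mem_cons_of_mem _ hj)) hr, wordProd_cons,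
          t.f_mul (Wt.lt_cons hred)]
        push_cast
        rfl
    have h4 : Lm cs t (iJ cs K) v = ((pJ cs t K : ℝ) : ℂ) • v := by
      rw [Lm_apply, LinearMap.sum_apply]
      unfold H157.HK.pJ
      rw [Complex.ofReal_sum, Finset.sum_smul]
      refine Finset.sum_congr rfl fun w _ => ?_
      unfold H157.HK.iJ
      by_cases hw : w ∈ WJ cs K
      · rw [if_pos hw, if_pos hw, one_smul, h2 w hw]
      · rw [if_neg hw, if_neg hw, zero_smul, Complex.ofReal_zero, zero_smul, LinearMap.zero_apply]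
    rw [H157.HK.eJ_eq, map_smul, LinearMap.smul_apply, h4, smul_smul, inv_mul_cancel₀ hp, one_smul]

end Cfsg.Agent.H526.LB
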