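import Cfsg.Agent.H526.LB.Solo

/-!
# The trace of `z θ(e_J)` (helper526)

* `trace_eJ_th` : `tr (z θ(e_J)) = ∑_{K ⊆ J} (-1)^|K| tr (z e_K)` for central `z`.
-/

set_option autoImplicit false
set_option linter.unusedSectionVars false

namespace Cfsg.Agent.H526.LB

open CoxeterSystem Module Cfsg.Agent.Tits.Exchange Cfsg.Agent.Tits.Core
open Cfsg.Agent.H157.HK (Wt L R LL RR Cas A Z e wd eJ pJ iJ wd_reduced wd_prod LL_nil LL_cons LL_e_one L_sq L_e commLR
  LL_append Wt.f_mul reduced_tail)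
open Cfsg.Agent.H116.HeckeU

variable {I W : Type*} {M : CoxeterMatrix I} [Group W] (cs : CoxeterSystem M W) [Fintype W] [DecidableEq W]

theorem f_wordProd (t : Wt cs) {ω : List I} (h : cs.IsReduced ω) :
    (t.f (cs.wordProd ω) : ℂ) = ((ω.map fun i => (t.p i : ℂ)).prod) := by
  induction ω with
  | nil => rw [wordProd_nil, t.f_one]; simp
  | cons i ω ih =>
    have hr := reduced_tail cs h
    rw [List.map_cons, List.prod_cons, ← ih hr, wordProd_cons, t.f_mul (Wt.lt_cons h)]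
    push_cast
    rfl

/-- the functions `(1 + T_s) v` -/
theorem add_mem_VK (t : Wt cs) (s : I) (v : W → ℂ) : v + L cs t s v ∈ VK cs {s} := by
  rw [mem_VK_iff_L cs t]
  intro s' hs'
  rw [Set.mem_singleton_iff.1 hs']
  have h := congrArg (fun a : Module.End ℂ (W → ℂ) => a v) (L_sq cs t s)
  simp only [Module.End.mul_apply, LinearMap.add_apply, LinearMap.smul_apply, Module.End.one_apply] at h
  rw [map_add, h]
  module

theorem LL'_sub_mem (t : Wt cs) {J : Set I} {ω : List I} (hω : ∀ i ∈ ω, i ∈ J) (v : W → ℂ) :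
    LL' cs t ω v - ((ω.map fun i => (t.p i : ℂ)).prod) • v ∈ UJ cs J := by
  induction ω with
  | nil =>
    rw [LL'_nil, List.map_nil, List.prod_nil, one_smul, Module.End.one_apply, sub_self]
    exact Submodule.zero_mem _
  | cons i ω ih =>
    have h1 := ih fun j hj => hω j (List.mem_cons_of_mem _ hj)
    have h2 := le_UJ cs (hω i (List.mem_cons_self ..)) (add_mem_VK cs t i (LL' cs t ω v))
    rw [LL'_cons, Module.End.mul_apply, List.map_cons, List.prod_cons]
    have h3 : L' cs t i (LL' cs t ω v) - ((t.p i : ℂ) * (ω.map fun i => (t.p i : ℂ)).prod) • v =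
        (t.p i : ℂ) • (LL' cs t ω v - ((ω.map fun i => (t.p i : ℂ)).prod) • v) -
          (LL' cs t ω v + L cs t i (LL' cs t ω v)) := by
      unfold L'
      rw [LinearMap.sub_apply, LinearMap.smul_apply, Module.End.one_apply]
      module
    rw [h3]
    exact Submodule.sub_mem _ (Submodule.smul_mem _ _ h1) h2

theorem Lm_th_iJ (t : Wt cs) (J : Set I) (v : W → ℂ) [DecidablePred (· ∈ WJ cs J)] :
    Lm cs t (th cs t (iJ cs J)) v = ∑ w, if w ∈ WJ cs J then LL' cs t (wd cs w) v else 0 := by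
  conv_lhs => rw [← sum_e (iJ cs J), map_sum, map_sum, LinearMap.sum_apply]
  refine Finset.sum_congr rfl fun w _ => ?_
  rw [map_smul, map_smul, Lm_th_e, LinearMap.smul_apply]
  unfold H157.HK.iJ
  by_cases hw : w ∈ WJ cs J
  · rw [if_pos hw, if_pos hw, one_smul]
  · rw [if_neg hw, if_neg hw, zero_smul]

theorem R_iJ (t : Wt cs) {J : Set I} {i : I} (hi : i ∈ J) : R cs t i (iJ cs J) = (t.p i : ℂ) • iJ cs J := by
  classical
  funext x
  have h1 : x * cs.simple i ∈ WJ cs J ↔ x ∈ WJ cs J := Subgroup.mul_mem_cancel_right _ (simple_mem_WJ cs hi)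
  rw [H157.HK.R_apply, Pi.smul_apply, smul_eq_mul]
  unfold H157.HK.iJ
  by_cases hx : x ∈ WJ cs J
  · rw [if_pos hx, if_pos (h1.2 hx)]
    split_ifs <;> ring
  · rw [if_neg hx, if_neg fun h => hx (h1.1 h)]
    split_ifs <;> ring

theorem eJ_mul_L (t : Wt cs) {J : Set I} {i : I} (hi : i ∈ J) :
    Lm cs t (eJ cs t J) * L cs t i = (t.p i : ℂ) • Lm cs t (eJ cs t J) := by
  have h1 : R cs t i (eJ cs t J) = (t.p i : ℂ) • eJ cs t J := by
    rw [H157.HK.eJ_eq, map_smul, R_iJ cs t hi, smul_comm]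
  rw [L_eq, ← Lm_mul, ← Rm_eq, ← map_smul, ← h1, R_eq]

theorem th_eJ_mul (t : Wt cs) {J : Set I} {i : I} (hi : i ∈ J) {v : W → ℂ} (hv : v ∈ VK cs {i}) :
    Lm cs t (th cs t (eJ cs t J)) v = 0 := by
  have hp : (t.p i : ℂ) + 1 ≠ 0 := by
    have := t.p_pos i
    exact_mod_cast (by linarith : t.p i + 1 ≠ 0)
  have h1 : L cs t i v = (t.p i : ℂ) • v := (mem_VK_iff_L cs t).1 hv i rfl
  have h2 : Lm cs t (th cs t (eJ cs t J)) (L' cs t i v) = (t.p i : ℂ) • Lm cs t (th cs t (eJ cs t J)) v := by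
    have h3 : L' cs t i v = th cs t (L cs t i (th cs t v)) := by rw [th_L, th_th]
    have h4 := congrArg (fun a : Module.End ℂ (W → ℂ) => th cs t (a (th cs t v))) (eJ_mul_L cs t hi)
    simp only [Module.End.mul_apply, LinearMap.smul_apply, map_smul] at h4
    rw [h3, ← th_Lm, h4, th_Lm, th_th]
  have h3 : L' cs t i v = -v := by
    unfold L'
    rw [LinearMap.sub_apply, LinearMap.smul_apply, Module.End.one_apply, h1]
    module
  rw [h3, map_neg] at h2
  have h4 : ((t.p i : ℂ) + 1) • Lm cs t (th cs t (eJ cs t J)) v = 0 := by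
    rw [add_smul, ← h2, one_smul, neg_add_cancel]
  exact (smul_eq_zero.1 h4).resolve_left hp

theorem isProj_th (t : Wt cs) (J : Set I) : LinearMap.IsProj (UJ cs J) (1 - Lm cs t (th cs t (eJ cs t J))) := by
  classical
  have hp : ((pJ cs t J : ℝ) : ℂ) ≠ 0 := H157.HK.pJ_ne cs t J
  constructor
  · intro v
    have h1 : (1 - Lm cs t (th cs t (eJ cs t J))) v = (-((pJ cs t J : ℝ) : ℂ)⁻¹) •
        ∑ w, (if w ∈ WJ cs J then LL' cs t (wd cs w) v - (t.f w : ℂ) • v else 0) := by
      rw [LinearMap.sub_apply, Module.End.one_apply, H157.HK.eJ_eq, map_smul, map_smul, LinearMap.smul_apply,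
        Lm_th_iJ]
      have h2 : ((pJ cs t J : ℝ) : ℂ) • v = ∑ w, if w ∈ WJ cs J then (t.f w : ℂ) • v else 0 := by
        unfold H157.HK.pJ
        rw [Complex.ofReal_sum, Finset.sum_smul]
        refine Finset.sum_congr rfl fun w _ => ?_
        by_cases hw : w ∈ WJ cs J
        · rw [if_pos hw, if_pos hw]
        · rw [if_neg hw, if_neg hw, Complex.ofReal_zero, zero_smul]
      have h3 : ∑ w, (if w ∈ WJ cs J then LL' cs t (wd cs w) v - (t.f w : ℂ) • v else 0) =
          (∑ w, if w ∈ WJ cs J then LL' cs t (wd cs w) v else 0) - ((pJ cs t J : ℝ) : ℂ) • v := by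
        rw [h2, ← Finset.sum_sub_distrib]
        refine Finset.sum_congr rfl fun w _ => ?_
        split_ifs
        · rfl
        · rw [sub_zero]
      rw [h3, smul_sub, smul_smul, neg_mul, inv_mul_cancel₀ hp]
      module
    rw [h1]
    refine Submodule.smul_mem _ _ (Submodule.sum_mem _ fun w _ => ?_)
    by_cases hw : w ∈ WJ cs J
    · rw [if_pos hw]
      obtain ⟨ω, hω, hred, hw'⟩ := exists_reduced_of_mem_WJ cs hw
      rw [LL'_eq cs t (wd_reduced cs w) hred (by rw [wd_prod, hw'])]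
      have h2 := LL'_sub_mem cs t hω v
      rw [← f_wordProd cs t hred, hw'] at h2
      exact h2
    · rw [if_neg hw]
      exact Submodule.zero_mem _
  · intro v hv
    refine UJ_induction cs (p := fun v => (1 - Lm cs t (th cs t (eJ cs t J))) v = v) ?_ ?_ ?_ hv
    · exact map_zero _
    · intro u v hu hv
      rw [map_add, hu, hv]
    · intro s hs v hv
      rw [LinearMap.sub_apply, Module.End.one_apply, th_eJ_mul cs t hs hv, sub_zero]

theorem central_VK (t : Wt cs) {z : W → ℂ} (hz : z ∈ Z cs t) (K : Set I) {v : W → ℂ} (hv : v ∈ VK cs K) :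
    Lm cs t z v ∈ VK cs K := by
  have h1 := (isProj_eJ cs t K).map_id v hv
  have h2 : Lm cs t z (Lm cs t (eJ cs t K) v) = Lm cs t (eJ cs t K) (Lm cs t z v) := by
    rw [← Module.End.mul_apply, ← Lm_mul, ← (mem_Z_iff cs).1 hz, Lm_mul, Module.End.mul_apply]
  rw [h1] at h2
  rw [h2]
  exact (isProj_eJ cs t K).map_mem _

/-- **The trace of `z θ(e_J)`.** -/
theorem trace_eJ_th [DecidableEq I] (t : Wt cs) {z : W → ℂ} (hz : z ∈ Z cs t) (J : Finset I) :
    LinearMap.trace ℂ (W → ℂ) (Lm cs t (Lm cs t z (th cs t (eJ cs t (J : Set I))))) =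
      ∑ K ∈ J.powerset, (-1 : ℂ) ^ K.card *
        LinearMap.trace ℂ (W → ℂ) (Lm cs t (Lm cs t z (eJ cs t (K : Set I)))) := by
  have h1 := alt_trace cs J (z := Lm cs t z) (fun K v hv => central_VK cs t hz K hv)
    (P := fun K => Lm cs t (eJ cs t (K : Set I))) (fun K => isProj_eJ cs t _) (isProj_th cs t (J : Set I))
  rw [mul_sub, mul_one, map_sub, sub_sub_cancel] at h1
  rw [Lm_mul, ← h1]
  exact Finset.sum_congr rfl fun K _ => by rw [Lm_mul]

/-- **The trace of `θ(z) e_J`.** -/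
theorem trace_th_eJ [DecidableEq I] (t : Wt cs) {z : W → ℂ} (hz : z ∈ Z cs t) (J : Finset I) :
    LinearMap.trace ℂ (W → ℂ) (Lm cs t (Lm cs t (th cs t z) (eJ cs t (J : Set I)))) =
      ∑ K ∈ J.powerset, (-1 : ℂ) ^ K.card *
        LinearMap.trace ℂ (W → ℂ) (Lm cs t (Lm cs t z (eJ cs t (K : Set I)))) := by
  rw [← trace_eJ_th cs t hz J, ← trace_th cs t (Lm cs t z _), th_Lm, th_th]

end Cfsg.Agent.H526.LB
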